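import Mathlib
import Cfsg.Agent.LieExceptional.BNPairCore
import Cfsg.Agent.FixBN.Split
import Cfsg.Agent.Schreier.BNGraph
import Cfsg.Agent.FastGrp
import Cfsg.Agent.Prune
set_option linter.all false
prune_inst 0x7f00000000000000000000000000000000000000000000000000000000000000000000000000000000000000000000000000000000000000000000000000000000000000000000000000000000000000003fffffffffffffffffffffffffffbeffbdffffffff
open scoped Cfsg.Agent.FastGrp

/-!
# S4834, cross characteristic: minimal parabolic subgroups of a split (B, N)-pair (helper687)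

`H = P.parabolic {t}`.

* `exists_trans` : `len n ≤ len (t n)`: `B ∩ n B n⁻¹` is transitive on the panel of type `t` at `B`, minus `B`;
* `relIndex_dvd` : `t n = n t` modulo `B ∩ N`: `|H : H ∩ n H n⁻¹|` divides `|B : B ∩ n B n⁻¹|`;
* `relIndex_split` : for split (B, N)-pairs of characteristic `r` this is a power of `r`;
* `dvd_card_inf` : `r` divides `|H ∩ x H x⁻¹|` for all `x`;
* `mem_dc_of_fix` : automorphisms fixing `B` and all minimal parabolic subgroups fix all double cosets `B g B`.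
-/

set_option autoImplicit false

namespace Cfsg.Agent.H687

open Cfsg Cfsg.Agent.LieExceptional.BNPairCore

variable {G : Type*} [Group G] {P : BNPair G}

/-- Conjugate of a subgroup. -/
abbrev cj (x : G) (H : Subgroup G) : Subgroup G := H.map (MulAut.conj x).toMonoidHom

theorem mem_cj {x : G} {H : Subgroup G} {y : G} : y ∈ cj x H ↔ x⁻¹ * y * x ∈ H := by
  constructor
  · rintro ⟨h, hh, rfl⟩
    have : x⁻¹ * (x * h * x⁻¹) * x = h := by group
    show x⁻¹ * (x * h * x⁻¹) * x ∈ H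
    rwa [this]
  · intro h
    refine ⟨x⁻¹ * y * x, h, ?_⟩
    show x * (x⁻¹ * y * x) * x⁻¹ = y
    group

theorem exists_trans {t n : G} (ht : t ∈ P.S) (hn : n ∈ P.N) (hle : len P n ≤ len P (t * n)) {b : G} (hb : b ∈ P.B) :
    ∃ r ∈ P.B, n⁻¹ * r * n ∈ P.B ∧ t⁻¹ * (r⁻¹ * b) * t ∈ P.B := by
  have h1 := mul_mem_C_of_le ht hn (mul_mem (inv_sq_mem ht) (inv_mem hb)) hle
  obtain ⟨b₁, hb₁, b₂, hb₂, h2⟩ := mem_C.1 h1
  have h3 : t * ((t * t)⁻¹ * b⁻¹) * n = t⁻¹ * b⁻¹ * n := by group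
  rw [h3] at h2
  set g : G := t * b₁⁻¹ * t⁻¹ * b⁻¹ with hg
  have hgt : t⁻¹ * (g * b) * t ∈ P.B := by
    have : t⁻¹ * (g * b) * t = b₁⁻¹ := by rw [hg]; group
    rw [this]
    exact inv_mem hb₁
  have hgn : n⁻¹ * g * n ∈ P.B := by
    have : n⁻¹ * g * n = (n⁻¹ * (t * t) * n) * b₂ := by
      have h4 : g * n = t * b₁⁻¹ * (t⁻¹ * b⁻¹ * n) := by rw [hg]; group
      rw [mul_assoc, h4, h2]; group
    rw [this]
    exact mul_mem (conj_mem_inv hn (P.sq_mem t ht) (mul_mem (mem_N ht) (mem_N ht))) hb₂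
  have hgB : g ∈ P.B := by
    have h4 : t * b₁⁻¹ * t⁻¹ ∈ P.B := by
      have h5 := axiom_left (P := P) ht (mem_N ht) (inv_mem hb₁)
      have h6 : t * b₁⁻¹ * t⁻¹ = t * b₁⁻¹ * t * (t * t)⁻¹ := by group
      rcases h5 with h5 | h5
      · rw [h6]
        exact mul_mem (mem_B_of_mem_C (P.sq_mem t ht) h5) (inv_sq_mem ht)
      · exfalso
        -- `g ∈ C t`, but `g n ∈ n B`
        have h7 : g ∈ C P t := by
          rw [hg]
          refine mul_mem_C_right (inv_mem hb) ?_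
          rw [h6]
          exact mul_mem_C_right (inv_sq_mem ht) h5
        obtain ⟨c₁, hc₁, c₂, hc₂, h8⟩ := mem_C.1 h7
        have h9 : g * n ∈ C P (t * n) := by
          rw [h8]
          have : c₁ * t * c₂ * n = c₁ * (t * c₂ * n) := by group
          rw [this]
          exact mul_mem_C_left hc₁ (mul_mem_C_of_le ht hn hc₂ hle)
        have h10 : g * n ∈ C P n := by
          have : g * n = n * (n⁻¹ * g * n) := by group
          rw [this]
          exact mul_mem_C_right hgn (self_mem_C n)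
        exact not_C_mul_left_eq ht hn (C_eq_of_mem_mem h9 h10)
    exact mul_mem h4 (inv_mem hb)
  exact ⟨g⁻¹, inv_mem hgB, by
    have : n⁻¹ * g⁻¹ * n = (n⁻¹ * g * n)⁻¹ := by group
    rw [this]
    exact inv_mem hgn, by rwa [inv_inv]⟩

/-- Elements of a minimal parabolic subgroup. -/
theorem mem_par {t : G} (ht : t ∈ P.S) {x : G} (hx : x ∈ P.parabolic {t}) :
    x ∈ P.B ∨ ∃ b ∈ P.B, ∃ b' ∈ P.B, x = b * t * b' := by
  exact Schreier.BNSch.mem_parabolic_singleton P ht hx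

theorem B_le_par (t : G) : P.B ≤ P.parabolic {t} := Schreier.BNSch.B_le_parabolic P _

theorem self_mem_par (t : G) : t ∈ P.parabolic {t} := Schreier.BNSch.mem_parabolic_self P t

/-- `H = (H ∩ n H n⁻¹) B` -/
theorem par_eq_mul {t n : G} (ht : t ∈ P.S) (hn : n ∈ P.N) (hle : len P n ≤ len P (t * n))
    (hcomm : (t * n)⁻¹ * (n * t) ∈ P.B) {x : G} (hx : x ∈ P.parabolic {t}) :
    ∃ r ∈ P.parabolic {t}, r ∈ cj n (P.parabolic {t}) ∧ ∃ b ∈ P.B, x = r * b := by
  have htn : t ∈ cj n (P.parabolic {t}) := by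
    rw [mem_cj]
    have h1 : n⁻¹ * t * n = ((t * n)⁻¹ * (n * t) * t⁻¹)⁻¹ := by group
    rw [h1]
    exact inv_mem (mul_mem (B_le_par t hcomm) (inv_mem (self_mem_par t)))
  rcases mem_par ht hx with h | ⟨b, hb, b', hb', rfl⟩
  · exact ⟨1, one_mem _, one_mem _, x, h, by simp⟩
  · obtain ⟨r, hr, hrn, hrt⟩ := exists_trans ht hn hle hb
    refine ⟨r * t, mul_mem (B_le_par t hr) (self_mem_par t), mul_mem ?_ htn, t⁻¹ * (r⁻¹ * b) * t * b',
      mul_mem hrt hb', by group⟩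
    rw [mem_cj]
    exact B_le_par t hrn

theorem relIndex_of_mul {A B C : Subgroup G} (hBA : B ≤ A) (h : ∀ a ∈ A, ∃ c ∈ C, ∃ b ∈ B, a = c * b) :
    C.relIndex A = C.relIndex B := by
  unfold Subgroup.relIndex Subgroup.index
  refine (Nat.card_congr (Equiv.ofBijective (Subgroup.quotientSubgroupOfEmbeddingOfLE C hBA)
    ⟨(Subgroup.quotientSubgroupOfEmbeddingOfLE C hBA).injective, ?_⟩)).symm
  intro x
  induction x using QuotientGroup.induction_on with
  | H a =>
    obtain ⟨c, hc, b, hb, hab⟩ := h (a : G)⁻¹ (inv_mem a.2)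
    refine ⟨QuotientGroup.mk ⟨b⁻¹, inv_mem hb⟩, ?_⟩
    rw [Subgroup.quotientSubgroupOfEmbeddingOfLE_apply_mk, QuotientGroup.eq, Subgroup.mem_subgroupOf]
    show ((b⁻¹)⁻¹ : G) * (a : G) ∈ C
    have h1 : (a : G) = b⁻¹ * c⁻¹ := by rw [← inv_inv (a : G), hab]; group
    rw [h1]
    have h2 : (b⁻¹)⁻¹ * (b⁻¹ * c⁻¹) = c⁻¹ := by group
    rw [h2]
    exact inv_mem hc

/-- `|H : H ∩ n H n⁻¹|` divides `|B : B ∩ n B n⁻¹|`. -/
theorem relIndex_dvd {t n : G} (ht : t ∈ P.S) (hn : n ∈ P.N) (hle : len P n ≤ len P (t * n))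
    (hcomm : (t * n)⁻¹ * (n * t) ∈ P.B) :
    (cj n (P.parabolic {t})).relIndex (P.parabolic {t}) ∣ (cj n P.B).relIndex P.B := by
  rw [relIndex_of_mul (B_le_par t) (C := cj n (P.parabolic {t})) fun x hx => by
    obtain ⟨r, -, hr, b, hb, h⟩ := par_eq_mul ht hn hle hcomm hx
    exact ⟨r, hr, b, hb, h⟩]
  exact Subgroup.relIndex_dvd_of_le_left _ (Subgroup.map_mono (B_le_par t))

/-- In a split (B, N)-pair of characteristic `r` the index `|B : B ∩ n B n⁻¹|` is a power of `r`. -/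
theorem relIndex_B [Finite G] {r : ℕ} {U : Subgroup G} [Fact r.Prime] (h : FixBN.Split P r U) {n : G}
    (hn : n ∈ P.N) : ∃ k, (cj n P.B).relIndex P.B = r ^ k := by
  rw [relIndex_of_mul h.le (C := cj n P.B) fun x hx => by
    obtain ⟨u, hu, hun⟩ := h.cover x⁻¹ (inv_mem hx)
    refine ⟨(u⁻¹ * x⁻¹)⁻¹, ?_, u⁻¹, inv_mem hu, by group⟩
    apply inv_mem
    rw [mem_cj]
    exact conj_mem_inv hn (mul_mem (inv_mem (h.le hu)) (inv_mem hx)) hun]
  have : IsPGroup r (U : Subgroup G) := h.isP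
  exact this.index ((cj n P.B).subgroupOf U)

/-! ### `r` divides `|H ∩ x H x⁻¹|` -/

theorem inf_cj_eq {H : Subgroup G} {a b x : G} (ha : a ∈ H) (hb : b ∈ H) :
    H ⊓ cj (a * x * b) H = cj a (H ⊓ cj x H) := by
  ext y
  rw [Subgroup.mem_inf, mem_cj, mem_cj, Subgroup.mem_inf, mem_cj]
  have e1 : (a * x * b)⁻¹ * y * (a * x * b) = b⁻¹ * (x⁻¹ * (a⁻¹ * y * a) * x) * b := by group
  rw [e1]
  constructor
  · rintro ⟨h1, h2⟩
    refine ⟨mul_mem (mul_mem (inv_mem ha) h1) ha, ?_⟩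
    have h3 := mul_mem (mul_mem hb h2) (inv_mem hb)
    have h4 : b * (b⁻¹ * (x⁻¹ * (a⁻¹ * y * a) * x) * b) * b⁻¹ = x⁻¹ * (a⁻¹ * y * a) * x := by group
    rwa [h4] at h3
  · rintro ⟨h1, h2⟩
    refine ⟨?_, mul_mem (mul_mem (inv_mem hb) h2) hb⟩
    have h3 := mul_mem (mul_mem ha h1) (inv_mem ha)
    have h4 : a * (a⁻¹ * y * a) * a⁻¹ = y := by group
    rwa [h4] at h3

theorem card_inf_cj {H : Subgroup G} {a b x : G} (ha : a ∈ H) (hb : b ∈ H) :
    Nat.card ((H ⊓ cj (a * x * b) H : Subgroup G)) = Nat.card ((H ⊓ cj x H : Subgroup G)) := by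
  rw [inf_cj_eq ha hb]
  exact (Nat.card_congr ((H ⊓ cj x H).equivMapOfInjective (MulAut.conj a).toMonoidHom
    (MulAut.conj a).injective).toEquiv).symm

theorem dvd_card_inf_of_le [Finite G] {r : ℕ} {U : Subgroup G} [Fact r.Prime] (h : FixBN.Split P r U) {t n : G}
    (ht : t ∈ P.S) (hn : n ∈ P.N) (hle : len P n ≤ len P (t * n)) :
    r ∣ Nat.card ((P.parabolic {t} ⊓ cj n (P.parabolic {t}) : Subgroup G)) := by
  -- an element of `B` moving the panel
  obtain ⟨b, hb, hbt⟩ : ∃ b ∈ P.B, t⁻¹ * b * t ∉ P.B := by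
    by_contra hcon
    push Not at hcon
    obtain ⟨b, hb, h1⟩ := exists_mem_C_self (P := P) ht
    have h2 := hcon ((t * t) * b) (mul_mem (P.sq_mem t ht) hb)
    have h3 : t⁻¹ * (t * t * b) * t = t * b * t := by group
    rw [h3] at h2
    exact not_mem_B ht (mem_of_mem_C le_rfl h1 h2)
  obtain ⟨c, hc, hcn, hct⟩ := exists_trans ht hn hle hb
  have hct' : t⁻¹ * c * t ∉ P.B := by
    intro h1
    apply hbt
    have h2 := mul_mem h1 hct
    have h3 : t⁻¹ * c * t * (t⁻¹ * (c⁻¹ * b) * t) = t⁻¹ * b * t := by group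
    rwa [h3] at h2
  obtain ⟨u, hu, huN⟩ := h.cover c hc
  have huB : u⁻¹ * c ∈ P.B := mul_mem (inv_mem (h.le hu)) hc
  have hun : n⁻¹ * u * n ∈ P.B := by
    have h1 := conj_mem_inv hn huB huN
    have h2 := mul_mem hcn (inv_mem h1)
    have h3 : n⁻¹ * c * n * (n⁻¹ * (u⁻¹ * c) * n)⁻¹ = n⁻¹ * u * n := by group
    rwa [h3] at h2
  have hu1 : u ≠ 1 := by
    rintro rfl
    apply hct'
    rw [inv_one, one_mul] at huB huN
    exact conj_mem_inv (mem_N ht) huB huN
  -- the order of `u` is a power of `r`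
  obtain ⟨k, hk⟩ := h.isP ⟨u, hu⟩
  have hk' : u ^ r ^ k = 1 := by
    have := congrArg Subtype.val hk
    simpa using this
  have hmem : u ∈ P.parabolic {t} ⊓ cj n (P.parabolic {t}) := by
    refine Subgroup.mem_inf.2 ⟨B_le_par t (h.le hu), ?_⟩
    rw [mem_cj]
    exact B_le_par t hun
  have h1 : orderOf u ∣ Nat.card ((P.parabolic {t} ⊓ cj n (P.parabolic {t}) : Subgroup G)) :=
    Subgroup.orderOf_dvd_natCard _ hmem
  refine dvd_trans ?_ h1
  obtain ⟨j, -, hj⟩ := (Nat.dvd_prime_pow Fact.out).1 (orderOf_dvd_of_pow_eq_one hk')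
  rw [hj]
  apply dvd_pow_self
  rintro rfl
  rw [pow_zero, orderOf_eq_one_iff] at hj
  exact hu1 hj

theorem dvd_card_inf [Finite G] {r : ℕ} {U : Subgroup G} [Fact r.Prime] (h : FixBN.Split P r U) {t : G}
    (ht : t ∈ P.S) (x : G) : r ∣ Nat.card ((P.parabolic {t} ⊓ cj x (P.parabolic {t}) : Subgroup G)) := by
  obtain ⟨n, hn, hx⟩ := bruhat (P := P) x
  obtain ⟨a, ha, b, hb, rfl⟩ := mem_C.1 hx
  rw [card_inf_cj (B_le_par t ha) (B_le_par t hb)]
  rcases le_total (len P n) (len P (t * n)) with hle | hle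
  · exact dvd_card_inf_of_le h ht hn hle
  · have h1 := dvd_card_inf_of_le h ht (mul_mem (mem_N ht) hn) (by
      rw [len_congr (rel_sq_mul ht hn)]; exact hle)
    have h2 := card_inf_cj (x := n) (self_mem_par (P := P) t) (one_mem (P.parabolic {t}))
    rw [mul_one] at h2
    rwa [h2] at h1

/-! ### automorphisms fixing the double cosets -/

/-- Automorphisms fixing `B` and all minimal parabolic subgroups fix all double cosets of `B`. -/
theorem mem_dc_of_fix {φ : MulAut G} (hB : ∀ b ∈ P.B, φ b ∈ P.B)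
    (hP : ∀ s ∈ P.S, ∀ x ∈ P.parabolic {s}, φ x ∈ P.parabolic {s}) (hBi : ∀ b, φ b ∈ P.B → b ∈ P.B) (x : G) :
    φ x ∈ C P x := by
  -- generators
  have hs : ∀ s ∈ P.S, φ s ∈ C P s := by
    intro s hs
    rcases mem_par hs (hP s hs s (self_mem_par s)) with h | ⟨b, hb, b', hb', h⟩
    · exact absurd (hBi s h) (not_mem_B hs)
    · exact mem_C.2 ⟨b, hb, b', hb', h⟩
  have key : ∀ l : List G, (∀ s ∈ l, s ∈ P.S) → l.length = len P l.prod → φ l.prod ∈ C P l.prod := by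
    intro l
    induction l with
    | nil => intro _ _; simpa using self_mem_C (P := P) 1
    | cons s l ih =>
      intro hl hlen
      have hsS := hl s (by simp)
      have hlS : ∀ x ∈ l, x ∈ P.S := fun x hx => hl x (by simp [hx])
      have hlN := prod_mem_N (P := P) hlS
      rw [List.length_cons, List.prod_cons] at hlen
      have h1 := len_prod_le (P := P) hlS
      have h2 := len_mul_left_le (P := P) hsS hlN
      have h3 : l.length = len P l.prod := by omega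
      obtain ⟨b₁, hb₁, b₂, hb₂, e1⟩ := mem_C.1 (hs s hsS)
      obtain ⟨c₁, hc₁, c₂, hc₂, e2⟩ := mem_C.1 (ih hlS h3)
      rw [List.prod_cons, map_mul, e1, e2]
      have e3 : b₁ * s * b₂ * (c₁ * l.prod * c₂) = b₁ * (s * (b₂ * c₁) * l.prod) * c₂ := by group
      rw [e3]
      exact mul_mem_C_right hc₂ (mul_mem_C_left hb₁ (mul_mem_C_of_le hsS hlN (mul_mem hb₂ hc₁) (by omega)))
  obtain ⟨n, hn, hx⟩ := bruhat (P := P) x
  obtain ⟨l, hlen, hl, hrel⟩ := exists_reduced (P := P) hn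
  have h1 := key l hl (by rw [hlen, len_congr hrel])
  rw [C_eq_of_rel hrel] at h1
  have h2 : φ n ∈ C P n := by
    have h3 : φ n = φ l.prod * φ (l.prod⁻¹ * n) := by rw [← map_mul, mul_inv_cancel_left]
    rw [h3]
    exact mul_mem_C_right (hB _ hrel) h1
  have hx' := hx
  obtain ⟨a, ha, b, hb, rfl⟩ := mem_C.1 hx
  rw [C_eq_of_mem hx', map_mul, map_mul]
  exact mul_mem_C_right (hB b hb) (mul_mem_C_left (hB a ha) h2)

end Cfsg.Agent.H687
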