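import Mathlib
import Cfsg.Agent.FixBN.Split
import Cfsg.Agent.Schreier.BNGraph
import Cfsg.Agent.H566.RgdExc_m3
import Cfsg.Agent.FixBN.SplitRGD
import Cfsg.Agent.H687.BNGeo
import Cfsg.Agent.LieRecognition.CoxForm
import Cfsg.Agent.FastGrp
import Cfsg.Agent.Prune
set_option linter.all false
prune_inst 0x7f00000000000000000000000000000000000000000000000000000000000000000000000000000000000000000000000000000000000000000000000000000000000000000000000000000000000000003fffffffffffffffffffffffffffbeffbdffffffff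
open scoped Cfsg.Agent.FastGrp

-- part: H527/TSplit
section
/-!
# Split (B, N)-pairs rigid under automorphisms of prime order `r` (helper527)

`r` is a prime not dividing `#K` (in the applications `r ≥ 5`, and `r = 3` for the Suzuki groups only).

* `Pres α X` : the automorphism `α` maps `X` into `X`;
* `RigSec P r X Y` : every `α : MulAut K`, `α ^ r = 1`, preserving `X` and `Y` and fixing the torus `B ∩ N` pointwise
  acts trivially on `X / Y`;
* `TSplit P p r U` : a split (B, N)-pair of characteristic `p` with abelian torus, rigid nodes and rigid diagram;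
* `HasTSplit p r K`;
* tools: `rigSec_of_few` (less than `r` orbits of the torus on the nonidentity elements of `X / Y`), `rigSec_trans`,
  `diag_of_graph` (diagram).
-/

set_option autoImplicit false
set_option linter.unusedSectionVars false

namespace Cfsg.Agent.H527.TS

open Cfsg.Agent.Schreier.BNSch

variable {K : Type*} [Group K]

/-- `α` maps `X` into `X`. -/
def Pres (α : MulAut K) (X : Subgroup K) : Prop := ∀ x ∈ X, α x ∈ X

/-- Automorphisms of order `r` fixing the torus pointwise act trivially on `X / Y`. -/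
def RigSec (P : Cfsg.BNPair K) (r : ℕ) (X Y : Subgroup K) : Prop :=
  ∀ α : MulAut K, α ^ r = 1 → Pres α X → Pres α Y → (∀ h ∈ P.B ⊓ P.N, α h = h) → ∀ u ∈ X, u⁻¹ * α u ∈ Y

/-- A split (B, N)-pair of characteristic `p`, with abelian torus, rigid for automorphisms of order `r`. -/
structure TSplit (P : Cfsg.BNPair K) (p r : ℕ) (U : Subgroup K) : Prop extends FixBN.Split P p U where
  comm : ∀ a ∈ P.B ⊓ P.N, ∀ b ∈ P.B ⊓ P.N, a * b = b * a
  diag : ∀ α : MulAut K, α ^ r = 1 → Pres α P.B → ∀ s ∈ P.S, Pres α (P.parabolic {s})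
  rig : ∀ s ∈ P.S, ∃ V : Subgroup K, Node P U s V ∧ RigSec P r U V

/-! ### Elementary facts -/

theorem Pres.pow {α : MulAut K} {X : Subgroup K} (h : Pres α X) (n : ℕ) : Pres (α ^ n) X := by
  induction n with
  | zero => intro x hx; simpa using hx
  | succ n ih =>
    intro x hx
    rw [pow_succ', MulAut.mul_apply]
    exact h _ (ih x hx)

/-! ### Rigid sections -/

/-! ### The diagram -/

end Cfsg.Agent.H527.TS
end

-- part: H527/TSplitRGD
section
/-!
# `TSplit` from root group data (helper527)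

* `GoodDiag M` : the diagram condition used by `diag_of_graph`;
* `rigSec_of_twoCls` : a node with at most two orbits of the torus on `X (α_i)` is rigid (`r` odd);
* `hasTSplit_of_rgd` : root group data with abelian torus, good diagram and rigid nodes.
-/

set_option autoImplicit false
set_option linter.unusedSectionVars false

namespace Cfsg.Agent.H527.TS

open Subgroup Cfsg.Agent.Schreier.BNSch
open CoxeterSystem Cfsg.Agent.ChevalleyStructure.CoxeterGeom Cfsg.Agent.Tits.Roots Cfsg.Agent.Tits.Core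
  Cfsg.Agent.Tits.RootComb Cfsg.Agent.Nodes.Comb Cfsg.Agent.Nodes.Reps Cfsg.Agent.Nodes.BNOf Cfsg.Agent.FixBN
open Cfsg.Agent.H566 (TwoCls val comm_mem_iff)

/-- The diagram condition. -/
def GoodDiag {I : Type*} [Fintype I] [DecidableEq I] (M : CoxeterMatrix I) : Prop :=
  ∃ v : ℕ, (Finset.univ.filter fun i => val M i = v).card ≤ 4 ∧ (∀ i, val M i ≤ 4) ∧
    ∃ rk : I → ℕ, ∀ i, val M i = v ∨ ∃ j, (j ≠ i ∧ M j i ≠ 2) ∧ rk j < rk i

variable {I W Y : Type*} [Fintype I] [DecidableEq I] [Group W] [Group Y] {M : CoxeterMatrix I}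
  {cs : CoxeterSystem M W} {A : I → I → ℤ} {h : IsCartan M A} {p : ℕ} {T : Subgroup Y} {n : I → Y}
  {X : (I → ℤ) → Subgroup Y}

/-! ### Good diagrams -/

/-- a path -/
theorem goodDiag_path {l : ℕ} (M : CoxeterMatrix (Fin l))
    (hM : ∀ i j : Fin l, i ≠ j → (M i j ≠ 2 ↔ (i : ℕ) + 1 = j ∨ (j : ℕ) + 1 = i)) : GoodDiag M := by
  rcases Nat.eq_zero_or_pos l with rfl | hl
  · exact ⟨0, by simp, fun i => i.elim0, fun _ => 0, fun i => i.elim0⟩
  have hle : ∀ k : Fin l, val M k ≤ 2 := by
    intro k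
    have h2 : (Finset.univ.filter fun j => k ≠ j ∧ M k j ≠ 2) ⊆
        {⟨(k : ℕ) - 1, by omega⟩, ⟨if (k : ℕ) + 1 < l then (k : ℕ) + 1 else 0, by split_ifs <;> omega⟩} := by
      intro j hj
      rw [Finset.mem_filter] at hj
      have h3 := (hM _ _ hj.2.1).1 hj.2.2
      rw [Finset.mem_insert, Finset.mem_singleton, Fin.ext_iff, Fin.ext_iff]
      have := j.2
      simp only
      split_ifs <;> omega
    exact (Finset.card_le_card h2).trans Finset.card_le_two
  refine ⟨val M ⟨0, hl⟩, (H566.card_val_path M hl hM).trans (by norm_num), fun i => (hle i).trans (by norm_num),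
    fun i => i, fun i => ?_⟩
  by_cases h0 : (i : ℕ) = 0
  · left
    congr 1
    exact Fin.ext h0
  · right
    refine ⟨⟨(i : ℕ) - 1, by omega⟩, ?_, by simp only; omega⟩
    have hne : (⟨(i : ℕ) - 1, by omega⟩ : Fin l) ≠ i := fun e => by
      have := congrArg Fin.val e
      simp only at this
      omega
    exact ⟨hne, (hM _ _ hne).2 (Or.inl (by simp only; omega))⟩

end Cfsg.Agent.H527.TS
end

-- part: H687/BNAuto
section
/-!
# S4834, cross characteristic: `p`-automorphisms, `p ≥ 5`, and the type of the (B, N)-pair (helper687)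

* `fam_fix`, `perm_fix` : permutations of `p`-power order of a small set, of a good diagram;
* `sylow_eq` : `U` is a Sylow subgroup;
* `DiagFix` : `p`-elements modulo `B` preserving `B` fix the minimal parabolic subgroups; `diagFix_of_card_le`,
  `diagFix_of_type`;
* `exists_conj_dc` : `p`-automorphisms fix, up to an inner automorphism, all double cosets of `B`;
* `exists_comm` : an element of `N` commuting with `t` modulo `B ∩ N`, outside `P.parabolic {t}`.
-/

set_option autoImplicit false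

namespace Cfsg.Agent.H687

open Cfsg Cfsg.Agent.LieExceptional.BNPairCore

/-! ### permutations -/

theorem fam_fix {ι : Type*} {p : ℕ} (hp : p.Prime) (hp5 : 5 ≤ p) {σ : Equiv.Perm ι} {k : ℕ}
    (hk : σ ^ p ^ k = 1) (T : Finset ι) (hT : T.card ≤ 4) (hσT : ∀ i ∈ T, σ i ∈ T) : ∀ i ∈ T, σ i = i := by
  classical
  intro i hi
  have h1 : Function.IsPeriodicPt σ (p ^ k) i := by
    show (σ^[p ^ k]) i = i
    rw [Equiv.Perm.iterate_eq_pow, hk]; rfl
  have h2 := h1.minimalPeriod_dvd
  obtain ⟨j, -, hj⟩ := (Nat.dvd_prime_pow hp).1 h2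
  rcases Nat.eq_zero_or_pos j with rfl | hj0
  · rw [pow_zero, Function.minimalPeriod_eq_one_iff_isFixedPt] at hj
    exact hj
  · exfalso
    have h3 : 5 ≤ Function.minimalPeriod σ i := by
      rw [hj]
      exact hp5.trans (Nat.le_self_pow hj0.ne' p)
    have hmem : ∀ m : ℕ, (σ^[m]) i ∈ T := by
      intro m
      induction m with
      | zero => exact hi
      | succ m ih => rw [Function.iterate_succ_apply']; exact hσT _ ih
    have h4 : (Finset.range 5).card ≤ T.card := by
      apply Finset.card_le_card_of_injOn (fun m => (σ^[m]) i) (fun m _ => hmem m)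
      intro a ha b hb hab
      rw [Finset.mem_coe, Finset.mem_range] at ha hb
      exact Function.iterate_injOn_Iio_minimalPeriod (by simp only [Set.mem_Iio]; omega)
        (by simp only [Set.mem_Iio]; omega) hab
    rw [Finset.card_range] at h4
    omega

/-- **Diagram lemma.** -/
theorem perm_fix {ι : Type*} [Fintype ι] (adj : ι → ι → Prop) [DecidableRel adj]
    (v : ℕ) (hv : (Finset.univ.filter fun i => (Finset.univ.filter fun j => adj i j).card = v).card ≤ 4)
    (h4 : ∀ i, (Finset.univ.filter fun j => adj i j).card ≤ 4)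
    (rk : ι → ℕ) (hrk : ∀ i, (Finset.univ.filter fun j => adj i j).card = v ∨ ∃ j, adj j i ∧ rk j < rk i)
    {p : ℕ} (hp : p.Prime) (hp5 : 5 ≤ p) {σ : Equiv.Perm ι} (hσ : ∀ i j, adj (σ i) (σ j) ↔ adj i j) {k : ℕ}
    (hk : σ ^ p ^ k = 1) (i : ι) : σ i = i := by
  have hval : ∀ i, (Finset.univ.filter fun j => adj (σ i) j).card = (Finset.univ.filter fun j => adj i j).card := by
    intro i
    symm
    apply Finset.card_bij (fun j _ => σ j)
    · intro j hj
      rw [Finset.mem_filter] at hj ⊢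
      exact ⟨Finset.mem_univ _, (hσ i j).2 hj.2⟩
    · intro a _ b _ h
      exact σ.injective h
    · intro j hj
      rw [Finset.mem_filter] at hj
      refine ⟨σ.symm j, ?_, by simp⟩
      rw [Finset.mem_filter]
      refine ⟨Finset.mem_univ _, (hσ i _).1 ?_⟩
      rw [Equiv.apply_symm_apply]
      exact hj.2
  have hmain : ∀ n i, rk i = n → σ i = i := by
    intro n
    induction n using Nat.strong_induction_on with
    | _ n ih =>
      intro i hi
      rcases hrk i with h | ⟨j, hj, hji⟩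
      · refine fam_fix hp hp5 hk _ hv ?_ i (Finset.mem_filter.2 ⟨Finset.mem_univ _, h⟩)
        intro k hk
        rw [Finset.mem_filter] at hk ⊢
        exact ⟨Finset.mem_univ _, by rw [hval]; exact hk.2⟩
      · have hjD := ih (rk j) (hi ▸ hji) j rfl
        refine fam_fix hp hp5 hk _ (h4 j) ?_ i (Finset.mem_filter.2 ⟨Finset.mem_univ _, hj⟩)
        intro k hk
        rw [Finset.mem_filter] at hk ⊢
        refine ⟨Finset.mem_univ _, ?_⟩
        have := (hσ j k).2 hk.2
        rwa [hjD] at this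
  exact hmain _ i rfl

/-! ### the diagram -/

variable {G : Type*} [Group G] {P : BNPair G}

/-- `p`-elements modulo `B` preserving `B` fix the minimal parabolic subgroups. -/
def DiagFix (P : BNPair G) (p : ℕ) : Prop :=
  ∀ φ : MulAut G, P.B.map φ.toMonoidHom = P.B → (∃ k : ℕ, ∃ b ∈ P.B, φ ^ p ^ k = MulAut.conj b) →
    ∀ s ∈ P.S, (P.parabolic {s}).map φ.toMonoidHom = P.parabolic {s}

theorem sigma_pow {φ : MulAut G} {ι : Type*} {s : ι → G} (hs : ∀ i, s i ∈ P.S) (hinj : Function.Injective s)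
    {σ : Equiv.Perm ι} (hσ : ∀ i, (P.parabolic {s i}).map φ.toMonoidHom = P.parabolic {s (σ i)}) {m : ℕ} {b : G}
    (hb : b ∈ P.B) (hm : φ ^ m = MulAut.conj b) : σ ^ m = 1 := by
  have hpinj : ∀ i j, P.parabolic {s i} = P.parabolic {s j} → i = j := by
    intro i j h
    have h1 := (Schreier.BNSch.parabolic_le_iff P (Set.singleton_subset_iff.2 (hs i))
      (Set.singleton_subset_iff.2 (hs j))).1 h.le
    exact hinj (Set.singleton_subset_singleton.1 h1)
  have hmap : ∀ (k : ℕ) (i : ι), (P.parabolic {s i}).map (φ ^ k).toMonoidHom = P.parabolic {s ((σ ^ k) i)} := by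
    intro k
    induction k with
    | zero =>
      intro i
      have : ((φ ^ 0 : MulAut G)).toMonoidHom = MonoidHom.id G := by ext x; simp
      rw [this, Subgroup.map_id]; rfl
    | succ k ih =>
      intro i
      have : ((φ ^ (k + 1) : MulAut G)).toMonoidHom = (φ.toMonoidHom).comp (φ ^ k).toMonoidHom := by
        ext x; rw [pow_succ']; rfl
      rw [this, ← Subgroup.map_map, ih, hσ, pow_succ']; rfl
  ext i
  apply hpinj
  rw [← hmap, hm]
  show cj b (P.parabolic {s i}) = P.parabolic {s i}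
  ext x
  rw [mem_cj]
  have hbP : b ∈ P.parabolic {s i} := B_le_par _ hb
  constructor
  · intro h
    have h1 := mul_mem (mul_mem hbP h) (inv_mem hbP)
    have h2 : b * (b⁻¹ * x * b) * b⁻¹ = x := by group
    rwa [h2] at h1
  · intro h
    exact mul_mem (mul_mem (inv_mem hbP) h) hbP

theorem diagFix_of_card_le [Finite G] {p : ℕ} (hp : p.Prime) (hp5 : 5 ≤ p) (h4 : Nat.card P.S ≤ 4) :
    DiagFix P p := by
  classical
  rintro φ hφ ⟨k, b, hb, hm⟩ t ht
  have : Fintype P.S := Fintype.ofFinite _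
  obtain ⟨σ, h1, -⟩ := Schreier.BNGraph.exists_perm P (fun i : P.S => (i : G)) Subtype.range_coe
    Subtype.val_injective (fun i j => i ≠ j ∧ (i : G) * j * (i : G)⁻¹ * (j : G)⁻¹ ∉ P.B) (fun i h => h.1 rfl)
    (fun i j hij => ⟨fun h => h.2, fun h => ⟨hij, h⟩⟩) φ hφ
  have h2 := sigma_pow (fun i : P.S => i.2) Subtype.val_injective h1 hb hm
  have h3 := fam_fix hp hp5 h2 Finset.univ (by rw [Finset.card_univ, ← Nat.card_eq_fintype_card]; exact h4)
    (fun _ _ => Finset.mem_univ _) ⟨t, ht⟩ (Finset.mem_univ _)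
  have h5 := h1 ⟨t, ht⟩
  rw [h3] at h5
  exact h5

theorem comm_iff [Finite G] {ι : Type*} [Fintype ι] [DecidableEq ι] {M : CoxeterMatrix ι} {e : ι ≃ P.S}
    (hT : Tits.Core.BNType P M e) {i j : ι} (hij : i ≠ j) :
    (e i : G) * e j * (e i : G)⁻¹ * (e j : G)⁻¹ ∈ P.B ↔ M i j = 2 := by
  obtain ⟨hN, cs, hcs⟩ := hT
  have h1 := LieRecognition.CoxForm.orderOf_eq cs i j
  have h2 : (e i : G) * e j * (e i : G)⁻¹ * (e j : G)⁻¹ ∈ P.B ↔
      cs.simple i * cs.simple j * (cs.simple i)⁻¹ * (cs.simple j)⁻¹ = 1 := by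
    rw [hcs, hcs, ← QuotientGroup.mk_mul, ← QuotientGroup.mk_inv, ← QuotientGroup.mk_inv, ← QuotientGroup.mk_mul,
      ← QuotientGroup.mk_mul, QuotientGroup.eq_one_iff, Subgroup.mem_subgroupOf, Subgroup.mem_inf]
    exact ⟨fun h => ⟨h, Subtype.property (_ : P.N)⟩, fun h => h.1⟩
  rw [h2, CoxeterSystem.inv_simple, CoxeterSystem.inv_simple]
  have h3 : cs.simple i * cs.simple j * cs.simple i * cs.simple j = (cs.simple i * cs.simple j) ^ 2 := by
    rw [sq]; simp only [mul_assoc]
  rw [h3, ← orderOf_dvd_iff_pow_eq_one, h1]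
  have h4 := M.off_diagonal i j hij
  constructor
  · intro h
    have := Nat.le_of_dvd (by norm_num) h
    have h5 : M i j ≠ 0 := by
      rintro h5
      rw [h5] at h
      omega
    omega
  · intro h
    rw [h]

theorem diagFix_of_type [Finite G] {p : ℕ} (hp : p.Prime) (hp5 : 5 ≤ p) {ι : Type*} [Fintype ι] [DecidableEq ι]
    {M : CoxeterMatrix ι} {e : ι ≃ P.S} (hT : Tits.Core.BNType P M e) (hM : H527.TS.GoodDiag M) : DiagFix P p := by
  rintro φ hφ ⟨k, b, hb, hm⟩ t ht
  obtain ⟨v, hv, h4, rk, hrk⟩ := hM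
  let dr : DecidableRel (fun i j : ι => i ≠ j ∧ M i j ≠ 2) := fun i j =>
    inferInstanceAs (Decidable (i ≠ j ∧ M i j ≠ 2))
  obtain ⟨σ, h1, h2⟩ := Schreier.BNGraph.exists_perm P (fun i => (e i : G)) (by
      ext x
      constructor
      · rintro ⟨i, rfl⟩; exact (e i).2
      · intro hx; exact ⟨e.symm ⟨x, hx⟩, by simp⟩)
    (fun i j h => e.injective (Subtype.ext h)) (fun i j => i ≠ j ∧ M i j ≠ 2) (fun i h => h.1 rfl) (by
      intro i j hij
      constructor
      · rintro ⟨-, h3⟩ h4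
        exact h3 ((comm_iff hT hij).1 h4)
      · intro h3
        exact ⟨hij, fun h4 => h3 ((comm_iff hT hij).2 h4)⟩) φ hφ
  have h3 := sigma_pow (fun i => (e i).2) (fun i j h => e.injective (Subtype.ext h)) h1 hb hm
  have h5 := perm_fix (fun i j => i ≠ j ∧ M i j ≠ 2) v hv h4 rk (fun i => by
    rcases hrk i with h | ⟨j, hj, hji⟩
    · exact Or.inl h
    · exact Or.inr ⟨j, hj, hji⟩) hp hp5 h2 h3 (e.symm ⟨t, ht⟩)
  have h6 := h1 (e.symm ⟨t, ht⟩)
  rw [h5] at h6
  simpa using h6

/-! ### automorphisms -/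

/-- `U` is a Sylow subgroup -/
theorem sylow_eq [Finite G] {l : ℕ} {U : Subgroup G} [hl : Fact l.Prime] (h : FixBN.Split P l U) (Q : Sylow l G)
    (hQ : U ≤ Q) : (Q : Subgroup G) = U := by
  by_contra hne
  have hlt : U < (Q : Subgroup G) := lt_of_le_of_ne hQ (Ne.symm hne)
  -- normalizers grow
  have h1 : (U.subgroupOf Q) < Subgroup.normalizer ((U.subgroupOf Q : Subgroup Q) : Set Q) := by
    have : Group.IsNilpotent Q := Q.isPGroup'.isNilpotent
    refine (Group.normalizerCondition_of_isNilpotent) _ ?_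
    rw [lt_top_iff_ne_top]
    intro htop
    rw [Subgroup.subgroupOf_eq_top] at htop
    exact hne (le_antisymm htop hQ)
  obtain ⟨x, hx, hxU⟩ := SetLike.exists_of_lt h1
  have hxB : (x : G) ∈ P.B := by
    rw [← h.normalizer_eq, Subgroup.mem_normalizer_iff]
    rw [Subgroup.mem_normalizer_iff] at hx
    intro y
    constructor
    · intro hy
      have := (hx ⟨y, hQ hy⟩).1 (by rw [Subgroup.mem_subgroupOf]; exact hy)
      rw [Subgroup.mem_subgroupOf] at this
      exact this
    · intro hy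
      have hyQ : y ∈ (Q : Subgroup G) := by
        have h3 : (x : G)⁻¹ * ((x : G) * y * (x : G)⁻¹) * x ∈ (Q : Subgroup G) :=
          mul_mem (mul_mem (inv_mem x.2) (hQ hy)) x.2
        have h4 : (x : G)⁻¹ * ((x : G) * y * (x : G)⁻¹) * x = y := by group
        rwa [h4] at h3
      have := (hx ⟨y, hyQ⟩).2 (by rw [Subgroup.mem_subgroupOf]; exact hy)
      rw [Subgroup.mem_subgroupOf] at this
      exact this
  obtain ⟨k, hk⟩ := IsPGroup.iff_orderOf.1 Q.isPGroup' x
  apply hxU
  rw [Subgroup.mem_subgroupOf]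
  refine h.mem_of_pow hxB (n := k) ?_
  rw [← hk, ← SubmonoidClass.coe_pow, pow_orderOf_eq_one]
  rfl

/-- Automorphisms map `B` to conjugates of `B`. -/
theorem exists_map_B [Finite G] {l : ℕ} {U : Subgroup G} [hl : Fact l.Prime] (h : FixBN.Split P l U)
    (φ : MulAut G) : ∃ s : G, P.B.map (MulAut.conj s * φ : MulAut G).toMonoidHom = P.B := by
  obtain ⟨Q, hQ⟩ := h.isP.exists_le_sylow
  have h1 := sylow_eq h Q hQ
  have h2 : IsPGroup l (U.map φ.toMonoidHom) := h.isP.map _
  obtain ⟨R, hR⟩ := h2.exists_le_sylow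
  have hR' : (R : Subgroup G) = U.map φ.toMonoidHom := by
    symm
    apply Subgroup.eq_of_le_of_card_ge hR
    rw [Subgroup.card_map_of_injective (f := φ.toMonoidHom) φ.injective, ← h1]
    exact (Nat.card_congr (Sylow.equiv R Q).toEquiv).le
  obtain ⟨s, hs⟩ := MulAction.exists_smul_eq G R Q
  refine ⟨s, ?_⟩
  have h3 : U.map (MulAut.conj s * φ : MulAut G).toMonoidHom = U := by
    have h4 : U.map (MulAut.conj s * φ : MulAut G).toMonoidHom = (U.map φ.toMonoidHom).map (MulAut.conj s).toMonoidHom := by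
      rw [Subgroup.map_map]; rfl
    rw [h4, ← hR', ← h1, ← hs]
    rfl
  rw [← h.normalizer_eq]
  conv_rhs => rw [← h3]
  exact Subgroup.map_equiv_normalizer_eq U (MulAut.conj s * φ : MulAut G)

/-- **`p`-automorphisms fix all double cosets of `B` up to an inner automorphism.** -/
theorem exists_conj_dc [Finite G] {l : ℕ} {U : Subgroup G} [hl : Fact l.Prime] (h : FixBN.Split P l U) {p : ℕ}
    (hD : DiagFix P p) {φ : MulAut G} (hφ : ∃ k : ℕ, orderOf φ = p ^ k) :
    ∃ s : G, ∀ x, s * φ x * s⁻¹ ∈ C P x := by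
  obtain ⟨k, hk⟩ := hφ
  obtain ⟨s, hs⟩ := exists_map_B h φ
  refine ⟨s, ?_⟩
  set ψ : MulAut G := MulAut.conj s * φ with hψ
  -- `ψ ^ m` is inner when `φ ^ m = 1`
  have hpow : ∀ m : ℕ, ∃ b : G, ψ ^ m = MulAut.conj b * φ ^ m := by
    intro m
    induction m with
    | zero => exact ⟨1, by simp⟩
    | succ m ih =>
      obtain ⟨b, hb⟩ := ih
      refine ⟨s * φ b, ?_⟩
      rw [pow_succ', hb, hψ, pow_succ', map_mul]
      have h1 : φ * MulAut.conj b = MulAut.conj (φ b) * φ := by
        ext x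
        simp [MulAut.conj_apply]
      calc MulAut.conj s * φ * (MulAut.conj b * φ ^ m) = MulAut.conj s * (φ * MulAut.conj b) * φ ^ m := by
            simp only [mul_assoc]
        _ = MulAut.conj s * MulAut.conj (φ b) * (φ * φ ^ m) := by rw [h1]; simp only [mul_assoc]
  obtain ⟨b, hb⟩ := hpow (p ^ k)
  rw [← hk, pow_orderOf_eq_one, mul_one, hk] at hb
  have hbB : b ∈ P.B := by
    have h1 : P.B.map (ψ ^ p ^ k).toMonoidHom = P.B := by
      have : ∀ m : ℕ, P.B.map (ψ ^ m).toMonoidHom = P.B := by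
        intro m
        induction m with
        | zero =>
          have : ((ψ ^ 0 : MulAut G)).toMonoidHom = MonoidHom.id G := by ext x; simp
          rw [this, Subgroup.map_id]
        | succ m ih =>
          have : ((ψ ^ (m + 1) : MulAut G)).toMonoidHom = (ψ.toMonoidHom).comp (ψ ^ m).toMonoidHom := by
            ext x; rw [pow_succ']; rfl
          rw [this, ← Subgroup.map_map, ih, hs]
      exact this _
    rw [hb] at h1
    refine mem_of_conj_mem' le_rfl fun c hc => ?_
    rw [← h1]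
    exact ⟨c, hc, rfl⟩
  have hfix := hD ψ hs ⟨k, b, hbB, hb⟩
  have hψB : ∀ b, ψ b ∈ P.B ↔ b ∈ P.B := by
    intro b
    constructor
    · intro hb
      rw [← hs] at hb
      obtain ⟨c, hc, h1⟩ := hb
      rwa [← ψ.injective h1]
    · intro hb
      rw [← hs]
      exact ⟨b, hb, rfl⟩
  intro x
  exact mem_dc_of_fix (φ := ψ) (fun b hb => (hψB b).2 hb) (fun t ht x hx => by
    rw [← hfix t ht]
    exact ⟨x, hx, rfl⟩) (fun b hb => (hψB b).1 hb) x

/-! ### commuting elements -/

theorem mem_par_N {t n : G} (ht : t ∈ P.S) (hn : n ∈ P.N) (h : n ∈ P.parabolic {t}) : n ∈ P.B ∨ n⁻¹ * t ∈ P.B := by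
  rcases mem_par ht h with h | ⟨b, hb, b', hb', h⟩
  · exact Or.inl h
  · right
    exact rel_of_C_eq hn (mem_N ht) (C_eq_of_mem (mem_C.2 ⟨b, hb, b', hb', h⟩))

theorem exists_comm_of {t n₀ : G} (ht : t ∈ P.S) (hn₀ : n₀ ∈ P.N) (hpar : n₀ ∉ P.parabolic {t})
    (hcomm : (t * n₀)⁻¹ * (n₀ * t) ∈ P.B) :
    ∃ n ∈ P.N, n ∉ P.parabolic {t} ∧ len P n ≤ len P (t * n) ∧ (t * n)⁻¹ * (n * t) ∈ P.B := by
  rcases le_total (len P n₀) (len P (t * n₀)) with hle | hle
  · exact ⟨n₀, hn₀, hpar, hle, hcomm⟩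
  · refine ⟨t * n₀, mul_mem (mem_N ht) hn₀, ?_, ?_, ?_⟩
    · intro h
      apply hpar
      have := mul_mem (inv_mem (self_mem_par (P := P) t)) h
      rwa [inv_mul_cancel_left] at this
    · rw [len_congr (rel_sq_mul ht hn₀)]
      exact hle
    · have h1 : (t * (t * n₀))⁻¹ * (t * n₀ * t) = (t * n₀)⁻¹ * (n₀ * t) := by group
      rw [h1]
      exact hcomm

/-- An element of `N` commuting with `t` modulo `B ∩ N`, outside the minimal parabolic subgroup of `t`. -/
theorem exists_comm [Finite G] {ι : Type*} [Fintype ι] [DecidableEq ι] {M : CoxeterMatrix ι} {e : ι ≃ P.S}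
    (hT : Tits.Core.BNType P M e) {i j : ι} (hM : Even (M i j)) :
    ∃ n ∈ P.N, n ∉ P.parabolic {(e j : G)} ∧ len P n ≤ len P ((e j : G) * n) ∧
      ((e j : G) * n)⁻¹ * (n * (e j : G)) ∈ P.B := by
  obtain ⟨hN, cs, hcs⟩ := hT
  obtain ⟨k, hk⟩ := hM
  have hord := LieRecognition.CoxForm.orderOf_eq cs i j
  have hpos : 0 < M i j := by rw [← hord]; exact orderOf_pos _
  obtain ⟨m, rfl⟩ : ∃ m, k = m + 1 := ⟨k - 1, by omega⟩
  set a := cs.simple i with ha
  set b := cs.simple j with hb
  set w : P.N ⧸ (P.B ⊓ P.N).subgroupOf P.N := (a * b) ^ m * a with hw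
  obtain ⟨⟨n₀, hn₀⟩, hnw⟩ := QuotientGroup.mk_surjective w
  have hab2 : (a * b) ^ (m + 1) * (a * b) ^ (m + 1) = 1 := by
    rw [← pow_add, ← hk, ← hord, pow_orderOf_eq_one]
  have haa : a * a = 1 := cs.simple_mul_simple_self i
  have hbb : b * b = 1 := cs.simple_mul_simple_self j
  have hwb : w * b = (a * b) ^ (m + 1) := by rw [hw, pow_succ, mul_assoc]
  have hbw : b * w = (a * b) ^ (m + 1) := by
    have h1 : b * w = b * (a * b) ^ (m + 1) * b⁻¹ := by rw [← hwb]; group
    have h2 : b * (a * b) * b⁻¹ = (a * b)⁻¹ := by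
      rw [mul_inv_rev, inv_eq_of_mul_eq_one_right haa, inv_eq_of_mul_eq_one_right hbb, mul_assoc, mul_assoc, hbb,
        mul_one]
    rw [h1, ← conj_pow, h2, inv_pow]
    exact inv_eq_of_mul_eq_one_right hab2
  -- membership in `P.parabolic`
  have hmk : ∀ (x y : G) (hx : x ∈ P.N) (hy : y ∈ P.N), (QuotientGroup.mk (⟨x, hx⟩ : P.N) :
      P.N ⧸ (P.B ⊓ P.N).subgroupOf P.N) = QuotientGroup.mk (⟨y, hy⟩ : P.N) ↔ x⁻¹ * y ∈ P.B := by
    intro x y hx hy
    rw [QuotientGroup.eq, Subgroup.mem_subgroupOf, Subgroup.mem_inf]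
    exact ⟨fun h => h.1, fun h => ⟨h, mul_mem (inv_mem hx) hy⟩⟩
  have htS := (e j).2
  have htN := mem_N (P := P) htS
  have hbt : (QuotientGroup.mk (⟨(e j : G), htN⟩ : P.N) : P.N ⧸ (P.B ⊓ P.N).subgroupOf P.N) = b := (hcs j).symm
  have hn₀par : n₀ ∉ P.parabolic {(e j : G)} := by
    intro h
    rcases mem_par_N htS hn₀ h with h | h
    · have h1 : w = 1 := by
        rw [← hnw, QuotientGroup.eq_one_iff, Subgroup.mem_subgroupOf, Subgroup.mem_inf]
        exact ⟨h, hn₀⟩
      have h2 : cs.lengthParity w = Multiplicative.ofAdd 1 := by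
        rw [hw, map_mul, map_pow, map_mul, ha, hb, cs.lengthParity_simple, cs.lengthParity_simple]
        have : (Multiplicative.ofAdd (1 : ZMod 2)) * Multiplicative.ofAdd 1 = 1 := by decide
        rw [this, one_pow, one_mul]
      rw [h1, map_one] at h2
      exact absurd h2 (by decide)
    · have h1 : w = b := by rw [← hnw, ← hbt, hmk]; exact h
      have h2 : (a * b) ^ (m + 1) = 1 := by rw [← hwb, h1, hbb]
      have h3 := orderOf_dvd_of_pow_eq_one h2
      rw [hord, hk] at h3
      have := Nat.le_of_dvd (by omega) h3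
      omega
  have hcomm₀ : ((e j : G) * n₀)⁻¹ * (n₀ * (e j : G)) ∈ P.B := by
    rw [← hmk _ _ (mul_mem htN hn₀) (mul_mem hn₀ htN)]
    have e1 : (QuotientGroup.mk (⟨(e j : G) * n₀, mul_mem htN hn₀⟩ : P.N) : P.N ⧸ (P.B ⊓ P.N).subgroupOf P.N) =
        b * w := by rw [← hbt, ← hnw]; rfl
    have e2 : (QuotientGroup.mk (⟨n₀ * (e j : G), mul_mem hn₀ htN⟩ : P.N) : P.N ⧸ (P.B ⊓ P.N).subgroupOf P.N) =
        w * b := by rw [← hbt, ← hnw]; rfl
    rw [e1, e2, hbw, hwb]
  exact exists_comm_of htS hn₀ hn₀par hcomm₀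

end Cfsg.Agent.H687
end

private theorem dce_82efd2f9752e : _root_.True := by
  try have : _root_.True := by simp only [_root_.Cfsg.Agent.H566.val.congr_simp]
  exact _root_.True.intro
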