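import Cfsg.Agent.Characters.Core
import Cfsg.Agent.OddOrderCharacters.Clifford
set_option linter.all false

/-!
# S4834: induced characters along a homomorphism covering the cosets (helper687)

`indFun_comp` : `f : H →* G`, `K ≤ G` with `f(H) K = G`: `(Ind_K^G θ) ∘ f = Ind_{f⁻¹ K}^H (θ ∘ f)`.
-/

set_option autoImplicit false

namespace Cfsg.Agent.H687

open Cfsg Cfsg.Agent.OddOrderCharacters.Clifford

universe u v

variable {G : Type u} {H : Type v} [Group G] [Group H] [Fintype G] [Fintype H]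

omit [Fintype G] [Fintype H] in
theorem card_fiber (f : H →* G) (K : Subgroup G) (hK : ∀ x : G, ∃ t : H, (f t)⁻¹ * x ∈ K) (x : G) :
    Nat.card {a : H × K // f a.1 * (a.2 : G) = x} = Nat.card (K.comap f) := by
  obtain ⟨t₀, h₀⟩ := hK x
  refine Nat.card_congr ⟨fun a => ⟨t₀⁻¹ * a.1.1, ?_⟩,
    fun g => ⟨(t₀ * g.1, ⟨(f g.1)⁻¹ * ((f t₀)⁻¹ * x), K.mul_mem (K.inv_mem g.2) h₀⟩), ?_⟩, ?_, ?_⟩
  · rw [Subgroup.mem_comap, map_mul, map_inv]
    have h1 : (f t₀)⁻¹ * f a.1.1 = (f t₀)⁻¹ * x * (a.1.2 : G)⁻¹ := by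
      have h2 := a.2
      rw [eq_mul_inv_iff_mul_eq, mul_assoc, h2]
    rw [h1]
    exact K.mul_mem h₀ (K.inv_mem a.1.2.2)
  · show f (t₀ * g.1) * ((f g.1)⁻¹ * ((f t₀)⁻¹ * x)) = x
    rw [map_mul]; group
  · rintro ⟨⟨t, k⟩, h⟩
    apply Subtype.ext
    refine Prod.ext (by simp) (Subtype.ext ?_)
    show (f (t₀⁻¹ * t))⁻¹ * ((f t₀)⁻¹ * x) = k
    rw [← show f t * (k : G) = x from h, map_mul, map_inv]
    group
  · intro g
    apply Subtype.ext
    simp

theorem sum_cover (f : H →* G) (K : Subgroup G) (hK : ∀ x : G, ∃ t : H, (f t)⁻¹ * x ∈ K) (F : G → ℂ)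
    (hF : ∀ x, ∀ k ∈ K, F (x * k) = F x) :
    (Nat.card K : ℂ) * ∑ t : H, F (f t) = (Nat.card (K.comap f) : ℂ) * ∑ x : G, F x := by
  classical
  have : Fintype K := Fintype.ofFinite K
  have h1 : ∑ a : H × K, F (f a.1 * (a.2 : G)) = (Nat.card K : ℂ) * ∑ t : H, F (f t) := by
    rw [Fintype.sum_prod_type, Finset.mul_sum]
    refine Finset.sum_congr rfl fun t _ => ?_
    rw [Finset.sum_congr rfl fun (k : K) _ => hF (f t) k k.2, Finset.sum_const, Finset.card_univ,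
      ← Nat.card_eq_fintype_card, nsmul_eq_mul]
  rw [← h1, ← Finset.sum_fiberwise_of_maps_to (s := (Finset.univ : Finset (H × K))) (t := (Finset.univ : Finset G))
    (g := fun a => f a.1 * (a.2 : G)) (fun _ _ => Finset.mem_univ _), Finset.mul_sum]
  refine Finset.sum_congr rfl fun x _ => ?_
  rw [Finset.sum_congr rfl fun a ha => by rw [(Finset.mem_filter.1 ha).2], Finset.sum_const, nsmul_eq_mul]
  congr 1
  rw [← card_fiber f K hK x]
  norm_cast
  rw [Nat.card_eq_fintype_card, Fintype.card_subtype]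

theorem indFun_comp (f : H →* G) (K : Subgroup G) (hK : ∀ x : G, ∃ t : H, (f t)⁻¹ * x ∈ K) (θ : K → ℂ)
    (hθ : ∀ a b : K, θ (a⁻¹ * b * a) = θ b) (s : H) :
    indFun K θ (f s) = indFun (K.comap f) (fun t => θ ⟨f t, t.2⟩) s := by
  classical
  unfold indFun
  have hF : ∀ x, ∀ k ∈ K, extendByZero K θ ((x * k)⁻¹ * f s * (x * k)) = extendByZero K θ (x⁻¹ * f s * x) := by
    intro x k hk
    have h1 : (x * k)⁻¹ * f s * (x * k) = k⁻¹ * (x⁻¹ * f s * x) * k := by group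
    rw [h1]
    by_cases h2 : x⁻¹ * f s * x ∈ K
    · have h3 : k⁻¹ * (x⁻¹ * f s * x) * k ∈ K := K.mul_mem (K.mul_mem (K.inv_mem hk) h2) hk
      rw [ext_apply_mem K θ _ h3, ext_apply_mem K θ _ h2]
      exact hθ ⟨k, hk⟩ ⟨_, h2⟩
    · have h3 : k⁻¹ * (x⁻¹ * f s * x) * k ∉ K := by
        intro h3
        apply h2
        have h4 := K.mul_mem (K.mul_mem hk h3) (K.inv_mem hk)
        have h5 : k * (k⁻¹ * (x⁻¹ * f s * x) * k) * k⁻¹ = x⁻¹ * f s * x := by group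
        rwa [h5] at h4
      rw [ext_apply_not_mem K θ _ h3, ext_apply_not_mem K θ _ h2]
  have h1 := sum_cover f K hK (fun x => extendByZero K θ (x⁻¹ * f s * x)) hF
  have hK0 : (Nat.card K : ℂ) ≠ 0 := by exact_mod_cast Nat.card_pos.ne'
  have hP0 : (Nat.card (K.comap f) : ℂ) ≠ 0 := by exact_mod_cast Nat.card_pos.ne'
  have h2 : ∑ t : H, extendByZero (K.comap f) (fun t => θ ⟨f t, t.2⟩) (t⁻¹ * s * t) =
      ∑ t : H, extendByZero K θ ((f t)⁻¹ * f s * f t) := by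
    refine Finset.sum_congr rfl fun t _ => ?_
    have h3 : (f t)⁻¹ * f s * f t = f (t⁻¹ * s * t) := by rw [map_mul, map_mul, map_inv]
    rw [h3]
    by_cases h4 : t⁻¹ * s * t ∈ K.comap f
    · rw [ext_apply_mem _ _ _ h4, ext_apply_mem K θ _ (Subgroup.mem_comap.1 h4)]
    · rw [ext_apply_not_mem _ _ _ h4, ext_apply_not_mem K θ _ (fun h5 => h4 h5)]
  rw [h2]
  field_simp
  have h3 : (Nat.card (K.comap f) : ℂ) * ∑ x : G, extendByZero K θ (x⁻¹ * f s * x) =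
      (Nat.card K : ℂ) * ∑ t : H, extendByZero K θ ((f t)⁻¹ * f s * f t) := h1.symm
  linear_combination h3

end Cfsg.Agent.H687
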