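import Cfsg.Agent.H387.VO.Main
import Cfsg.Agent.H678.DG.HeDegA
import Cfsg.Agent.KFacts.He.TwoA_m3
import Cfsg.Agent.H710.VanCount
import Cfsg.Agent.H997.OutHe2
import Cfsg.Agent.KFacts.He.Outer
import Cfsg.Agent.H419.TwoTrans_m3
import Cfsg.Agent.FastGrp
import Cfsg.Agent.Prune
set_option linter.all false
prune_inst 0x7f00000000000000000000000000000000000000000000000000000000000000000000000000000000000000000000000000000000000000000000000000000000000000000000000000000000000000003fffffffffffffffffffffffffffbeffbdffffffff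
open scoped Cfsg.Agent.FastGrp

/-!
# Zeros of characters of the Held group (helper687, S4987)

* `two_he_5` : the character of degree 1275 has 5-defect zero.
* `two_he_7` : elements of order 14 and 21 with centralizers of order 14 and 21, by counting classes (at least 22).
-/

set_option autoImplicit false
set_option maxRecDepth 100000

namespace Cfsg.Agent.H687.HeVan

open Cfsg Cfsg.Spor.He Subgroup
open Cfsg.Agent.SporadicB.HePerm
open Cfsg.Agent.FixBN.HeStab Cfsg.Agent.KFacts.He.Lv Cfsg.Agent.CpAutHe.Cnt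
open Cfsg.Agent.H19.Odd.HeCnt
open Cfsg.Agent.H997.OutHe (rho rho_gn rho_sq rho_outer)

universe u

instance instFiniteHeVan : Finite Cfsg.Spor.He := Nat.finite_of_card_ne_zero (by rw [H678.DG.HeDegA.card_he]; norm_num)

/-! ### Orders -/

theorem wd_nil' : wd [] = 1 := rfl

theorem chkB_of_eq {v w : List Gen} (h : wd v = wd w) : chkB v w = true := by
  have key : ∀ i : Fin 2058, Nat.beq (act v i) (act w i) = true := fun i => by
    rw [← phi_wd_apply, ← phi_wd_apply, h]
    exact Nat.beq_refl _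
  unfold chkB
  rw [Bool.and_eq_true, Bool.and_eq_true, Bool.and_eq_true]
  exact ⟨⟨key 0, key 1⟩, key 32, key 8⟩

/-- the test for the order -/
def ordT (X : List Gen) (n : ℕ) : Bool :=
  and (chkB (pw X n) []) ((List.range n).all fun k => or (Nat.beq k 0) (!(chkB (pw X k) [])))

theorem orderOf_of_ordT {X : List Gen} {n : ℕ} (hn : 0 < n) (h : ordT X n = true) : orderOf (wd X) = n := by
  unfold ordT at h
  rw [Bool.and_eq_true, List.all_eq_true] at h
  rw [orderOf_eq_iff hn]
  refine ⟨by rw [← wd_pw, eq_of_chkB h.1, wd_nil'], fun m hm hm0 h1 => ?_⟩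
  have h2 := h.2 m (List.mem_range.2 hm)
  rw [Bool.or_eq_true] at h2
  rcases h2 with h2 | h2
  · exact hm0.ne' (Nat.eq_of_beq_eq_true h2)
  · rw [← wd_pw, ← wd_nil'] at h1
    rw [chkB_of_eq h1] at h2
    exact absurd h2 (by decide)

/-! ### Fixed points -/

/-- the number of fixed points -/
noncomputable def fixn (g : Cfsg.Spor.He) : ℕ := Nat.card {i : Fin 2058 // phi g i = i}

/-- the number of fixed points of a word -/
def fw (X : List Gen) : ℕ := cnt 2058 (fun i => Nat.beq (act X i) i)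

theorem fixn_wd (X : List Gen) : fixn (wd X) = fw X := by
  unfold fixn fw
  rw [← card_filter, Nat.card_eq_fintype_card, Fintype.card_subtype]
  refine Finset.card_bij (fun i _ => (i : ℕ)) ?_ ?_ ?_
  · intro i hi
    rw [Finset.mem_filter, Finset.mem_range]
    refine ⟨i.2, ?_⟩
    rw [← phi_wd_apply, (Finset.mem_filter.1 hi).2]
    exact Nat.beq_refl _
  · intro i _ j _ h
    exact Fin.ext h
  · intro i hi
    rw [Finset.mem_filter, Finset.mem_range] at hi
    refine ⟨⟨i, hi.1⟩, ?_, rfl⟩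
    rw [Finset.mem_filter]
    refine ⟨Finset.mem_univ _, Fin.ext ?_⟩
    rw [phi_wd_apply]
    exact Nat.eq_of_beq_eq_true hi.2

theorem fixn_conj (k g : Cfsg.Spor.He) : fixn (k * g * k⁻¹) = fixn g := by
  unfold fixn
  refine Nat.card_congr ((phi k).symm.subtypeEquiv fun i => ?_)
  rw [map_mul, map_mul, map_inv, Equiv.Perm.mul_apply, Equiv.Perm.mul_apply]
  constructor
  · intro h
    have h1 := congrArg (phi k).symm h
    rw [Equiv.symm_apply_apply] at h1
    exact h1
  · intro h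
    have h1 := congrArg (phi k) h
    rw [Equiv.apply_symm_apply] at h1
    exact h1

/-- the class function -/
noncomputable def cf (g : Cfsg.Spor.He) : ℕ × ℕ × ℕ := (orderOf g, fixn g, fixn (g ^ 7))

theorem cf_conj {x y : Cfsg.Spor.He} (h : IsConj x y) : cf x = cf y := by
  obtain ⟨k, rfl⟩ := isConj_iff.1 h
  unfold cf
  rw [fixn_conj, conj_pow, fixn_conj, ← MulAut.conj_apply, MulEquiv.orderOf_eq]

/-- the test for the class -/
def clT (X : List Gen) (t : ℕ × ℕ × ℕ) : Bool :=
  and (and (Nat.blt 0 t.1) (ordT X t.1)) (and (Nat.beq (fw X) t.2.1) (Nat.beq (fw (pw X 7)) t.2.2))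

theorem cf_of_clT {X : List Gen} {t : ℕ × ℕ × ℕ} (h : clT X t = true) : cf (wd X) = t := by
  unfold clT at h
  rw [Bool.and_eq_true, Bool.and_eq_true, Bool.and_eq_true] at h
  obtain ⟨⟨h1, h2⟩, h3, h4⟩ := h
  have h0 : 0 < t.1 := by rwa [Nat.blt_eq] at h1
  obtain ⟨a, b, c⟩ := t
  unfold cf
  rw [orderOf_of_ordT h0 h2, fixn_wd, ← wd_pw, fixn_wd, Nat.eq_of_beq_eq_true h3, Nat.eq_of_beq_eq_true h4]

/-- the classes -/
def cls : List ((ℕ × ℕ × ℕ) × List Gen) := [
  ((1, 2058, 2058), []), ((2, 154, 154), [.a]), ((2, 42, 42), [.d]), ((3, 0, 0), [.c, .b]), ((3, 42, 42), [.e, .d]),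
  ((4, 14, 14), [.b, .a]), ((4, 18, 18), [.g, .f]), ((4, 2, 2), [.g, .f, .b]), ((5, 8, 8), [.d, .c, .a]),
  ((6, 0, 0), [.c, .b, .a]), ((6, 10, 10), [.e, .d, .a]), ((7, 0, 2058), [.g, .f, .d]),
  ((8, 2, 2), [.f, .d, .b, .c, .d, .c, .b, .a]), ((10, 4, 4), [.d, .c]), ((12, 2, 2), [.d, .c, .b]),
  ((12, 0, 0), [.g, .f, .c, .b]), ((14, 0, 154), [.g, .f, .d, .a]), ((14, 0, 42), [.d, .g, .d, .f, .d, .c, .b]),
  ((15, 2, 2), [.d, .f, .d, .c, .d, .c, .b]), ((17, 1, 1), [.f, .d, .c, .b]), ((21, 0, 42), [.d, .c, .b, .a]),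
  ((28, 0, 14), [.g, .f, .d, .b, .a])]

open Cfsg.Agent.KFacts.He.Fast (actF act_fast) in
private theorem clT_fast (X : List Gen) (t : ℕ × ℕ × ℕ) : clT X t = and (and (Nat.blt 0 t.1) (ordT X t.1))
    (and (Nat.beq (cnt 2058 fun i => Nat.beq (actF X i) i) t.2.1)
      (Nat.beq (cnt 2058 fun i => Nat.beq (actF (pw X 7) i) i) t.2.2)) := by
  rw [← act_fast]
  rfl

theorem chk_cls_0 : clT [] (1, 2058, 2058) = true := by
  rw [clT_fast]
  decide +kernel
theorem chk_cls_1 : clT [.a] (2, 154, 154) = true := by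
  rw [clT_fast]
  decide +kernel
theorem chk_cls_2 : clT [.d] (2, 42, 42) = true := by
  rw [clT_fast]
  decide +kernel
theorem chk_cls_3 : clT [.c, .b] (3, 0, 0) = true := by
  rw [clT_fast]
  decide +kernel
theorem chk_cls_4 : clT [.e, .d] (3, 42, 42) = true := by
  rw [clT_fast]
  decide +kernel
theorem chk_cls_5 : clT [.b, .a] (4, 14, 14) = true := by
  rw [clT_fast]
  decide +kernel
theorem chk_cls_6 : clT [.g, .f] (4, 18, 18) = true := by
  rw [clT_fast]
  decide +kernel
theorem chk_cls_7 : clT [.g, .f, .b] (4, 2, 2) = true := by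
  rw [clT_fast]
  decide +kernel
theorem chk_cls_8 : clT [.d, .c, .a] (5, 8, 8) = true := by
  rw [clT_fast]
  decide +kernel
theorem chk_cls_9 : clT [.c, .b, .a] (6, 0, 0) = true := by
  rw [clT_fast]
  decide +kernel
theorem chk_cls_10 : clT [.e, .d, .a] (6, 10, 10) = true := by
  rw [clT_fast]
  decide +kernel
theorem chk_cls_11 : clT [.g, .f, .d] (7, 0, 2058) = true := by
  rw [clT_fast]
  decide +kernel
theorem chk_cls_12 : clT [.f, .d, .b, .c, .d, .c, .b, .a] (8, 2, 2) = true := by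
  rw [clT_fast]
  decide +kernel
theorem chk_cls_13 : clT [.d, .c] (10, 4, 4) = true := by
  rw [clT_fast]
  decide +kernel
theorem chk_cls_14 : clT [.d, .c, .b] (12, 2, 2) = true := by
  rw [clT_fast]
  decide +kernel
theorem chk_cls_15 : clT [.g, .f, .c, .b] (12, 0, 0) = true := by
  rw [clT_fast]
  decide +kernel
theorem chk_cls_16 : clT [.g, .f, .d, .a] (14, 0, 154) = true := by
  rw [clT_fast]
  decide +kernel
theorem chk_cls_17 : clT [.d, .g, .d, .f, .d, .c, .b] (14, 0, 42) = true := by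
  rw [clT_fast]
  decide +kernel
theorem chk_cls_18 : clT [.d, .f, .d, .c, .d, .c, .b] (15, 2, 2) = true := by
  rw [clT_fast]
  decide +kernel
theorem chk_cls_19 : clT [.f, .d, .c, .b] (17, 1, 1) = true := by
  rw [clT_fast]
  decide +kernel
theorem chk_cls_20 : clT [.d, .c, .b, .a] (21, 0, 42) = true := by
  rw [clT_fast]
  decide +kernel
theorem chk_cls_21 : clT [.g, .f, .d, .b, .a] (28, 0, 14) = true := by
  rw [clT_fast]
  decide +kernel

theorem chk_cls : (cls.all fun c => clT c.2 c.1) = true := by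
  rw [cls]
  simp only [List.all_cons, List.all_nil, chk_cls_0, chk_cls_1, chk_cls_2, chk_cls_3, chk_cls_4, chk_cls_5, chk_cls_6, chk_cls_7, chk_cls_8, chk_cls_9, chk_cls_10,
    chk_cls_11, chk_cls_12, chk_cls_13, chk_cls_14, chk_cls_15, chk_cls_16, chk_cls_17, chk_cls_18, chk_cls_19, chk_cls_20, chk_cls_21, Bool.and_true]

theorem card_classes : 22 ≤ Nat.card (ConjClasses Cfsg.Spor.He) := by
  have h := H710.VanCount.le_card_conjClasses' cf (fun _ _ => cf_conj) (cls.map Prod.fst).toFinset ?_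
  · refine le_trans (le_of_eq ?_) h
    decide +kernel
  · intro t ht
    rw [List.mem_toFinset, List.mem_map] at ht
    obtain ⟨c, hc, rfl⟩ := ht
    have h1 := chk_cls
    rw [List.all_eq_true] at h1
    exact ⟨wd c.2, cf_of_clT (h1 c hc)⟩

/-! ### Centralizers -/

/-- the test for the images of `r` by an element of the centralizer mapping `p` to `q` -/
def mt (X : List Gen) (ks : List ℕ) (p q r y : ℕ) : Bool :=
  ks.all fun k => Nat.beq (colr (act (pw X k) q) y) (colr (act (pw X k) p) r)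

theorem comm_pw {X : List Gen} {c : Cfsg.Spor.He} (hc : c * wd X = wd X * c) (k : ℕ) :
    c * wd (pw X k) = wd (pw X k) * c := by
  rw [wd_pw]
  exact ((show Commute c (wd X) from hc).pow_right k).eq

theorem mt_spec {X : List Gen} {c : Cfsg.Spor.He} (hc : c * wd X = wd X * c) (ks : List ℕ) (p r : Fin 2058) :
    mt X ks p (phi c p) r (phi c r) = true := by
  unfold mt
  rw [List.all_eq_true]
  intro k _
  have h2 : act (pw X k) (phi c p) = (phi c (phi (wd (pw X k)) p) : ℕ) := by
    rw [act_eq, ← phi_mul_apply, ← comm_pw hc k, phi_mul_apply]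
  rw [h2, colr_inv, ← act_eq]
  exact Nat.beq_refl _

/-- the cycle -/
def cyc (X : List Gen) (q o : ℕ) : List ℕ := (List.range o).map fun j => act (pw X j) q

/-- A bound where the cycle of one candidate is excluded. -/
theorem card_le_excl {X : List Gen} (p q r : Fin 2058) (ks ks' : List ℕ) (o : ℕ) {n : ℕ}
    (h0 : cnt 2058 (mt X ks' p q r) = 0)
    (h1 : cnt 2058 (fun y => and (tst X [] ks p y) (!(elemN y (cyc X q o)))) = n)
    {l : List Stp} (h : run X l (nx X [] p) = true) (hb : bd l ≤ 1) :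
    Nat.card ↥(centralizer ({wd X} : Set Cfsg.Spor.He)) ≤ n := by
  have hC : ∀ c ∈ centralizer ({wd X} : Set Cfsg.Spor.He), c * wd X = wd X * c := fun c hc =>
    mem_centralizer_singleton_iff.1 hc
  have hq : ∀ c : Cfsg.Spor.He, c * wd X = wd X * c → phi c p ≠ q := by
    intro c hc hcp
    have h2 := mt_spec hc ks' p r
    rw [hcp, ← card_filter] at *
    rw [Finset.card_eq_zero] at h0
    have h3 : ((phi c r : Fin 2058) : ℕ) ∈ (Finset.range 2058).filter (fun y => mt X ks' p q r y = true) := by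
      rw [Finset.mem_filter, Finset.mem_range]
      exact ⟨(phi c r).2, h2⟩
    rw [h0] at h3
    exact absurd h3 (Finset.notMem_empty _)
  have h4 := orb (centralizer ({wd X} : Set Cfsg.Spor.He)) p
    ((Finset.range 2058).filter (fun y => and (tst X [] ks p y) (!(elemN y (cyc X q o))) = true)) ?_ (m := 1) ?_
  · rw [card_filter, h1, mul_one] at h4
    exact h4
  · intro c hc
    rw [Finset.mem_filter, Finset.mem_range, Bool.and_eq_true, Bool.not_eq_true']
    refine ⟨(phi c p).2, tst_spec (F := []) (hC c hc) (fun f hf => absurd hf List.not_mem_nil) (List.Subset.refl _) ks p, ?_⟩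
    rw [Bool.eq_false_iff]
    intro h5
    obtain ⟨j, -, hj⟩ := List.mem_map.1 (of_elemN h5)
    have hc' : (wd (pw X j))⁻¹ * c * wd X = wd X * ((wd (pw X j))⁻¹ * c) := by
      have e1 : Commute c (wd X) := hC c hc
      have e2 : Commute (wd (pw X j))⁻¹ (wd X) := by
        rw [wd_pw]
        exact ((Commute.refl (wd X)).pow_left j).inv_left
      exact (e2.mul_left e1).eq
    refine hq _ hc' ?_
    rw [map_mul, map_inv, Equiv.Perm.mul_apply, Equiv.Perm.inv_eq_iff_eq]
    apply Fin.ext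
    rw [← hj, act_eq]
  · refine le_trans (le_of_run l (nx X [] p) _ (fun c hc => hC c (mem_st.1 hc).1) (fun c hc => ?_) h) hb
    exact fx_nx (p := p) (hC c (mem_st.1 hc).1) (fun f hf => absurd hf List.not_mem_nil) (mem_st.1 hc).2

/-- order 21 -/
def XE : List Gen := [.d, .c, .b, .a]

/-- order 14 -/
def XF : List Gen := [.d, .g, .d, .f, .d, .c, .b]

theorem cardE : Nat.card ↥(centralizer ({wd XE} : Set Cfsg.Spor.He)) ≤ 21 :=
  card_le_excl (X := XE) 32 65 8 [1, 2] [6, 3, 14] 21
    (by delta mt; rw [Cfsg.Agent.KFacts.He.Fast.colr_fast]; decide +kernel) (by rw [tst_fast]; decide +kernel)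
    (l := [⟨0, [673, 449, 1060, 32, 1495], [4], 1⟩, ⟨8, [1060, 0, 12], [], 1⟩])
    (by rw [Cfsg.Agent.H19.Odd.HeCnt.scrFast_eq]; decide +kernel) (by decide)

theorem cardF : Nat.card ↥(centralizer ({wd XF} : Set Cfsg.Spor.He)) ≤ 14 :=
  card_le_excl (X := XF) 0 16 32 [2, 3] [3, 13, 4] 14
    (by delta mt; rw [Cfsg.Agent.KFacts.He.Fast.colr_fast]; decide +kernel) (by rw [tst_fast]; decide +kernel)
    (l := [⟨1, [285, 288, 41, 63], [], 1⟩, ⟨32, [208, 288, 1, 17], [], 1⟩, ⟨8, [138, 0, 32, 1623], [], 1⟩])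
    (by rw [Cfsg.Agent.H19.Odd.HeCnt.scrFast_eq]; decide +kernel) (by decide)

theorem orderE : orderOf (wd XE) = 21 := orderOf_of_ordT (by norm_num) (by decide +kernel)
theorem orderF : orderOf (wd XF) = 14 := orderOf_of_ordT (by norm_num) (by decide +kernel)

/-! ### Automorphisms -/

/-- the automorphism on words -/
theorem rho_wd (w : List Gen) : rho (wd w) = wd (w.map H997.OutHe.sw) := by
  induction w with
  | nil => rw [wd_nil', map_one]; rfl
  | cons x w ih =>
    have h1 : wd (x :: w) = gn x * wd w := rfl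
    rw [h1, map_mul, rho_gn, ih]
    rfl

/-- every automorphism is inner or inner times `rho` -/
theorem aut_cases (α : MulAut Cfsg.Spor.He) : ∃ k : Cfsg.Spor.He, (∀ g, α g = k * g * k⁻¹) ∨
    ∀ g, α g = k * rho g * k⁻¹ := by
  rcases KFacts.He.Outer.index_le_two (K := Cfsg.Spor.He) ⟨MulEquiv.refl _⟩ with h | h
  · rw [Subgroup.index_eq_one] at h
    have h1 : α ∈ (MulAut.conj : Cfsg.Spor.He →* MulAut Cfsg.Spor.He).range := by
      rw [h]
      exact Subgroup.mem_top α
    obtain ⟨k, rfl⟩ := h1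
    exact ⟨k, Or.inl fun g => MulAut.conj_apply k g⟩
  · by_cases hσ : α ∈ (MulAut.conj : Cfsg.Spor.He →* MulAut Cfsg.Spor.He).range
    · obtain ⟨k, rfl⟩ := hσ
      exact ⟨k, Or.inl fun g => MulAut.conj_apply k g⟩
    · have hr : rho ∉ (MulAut.conj : Cfsg.Spor.He →* MulAut Cfsg.Spor.He).range := by
        rintro ⟨k, hk⟩
        exact rho_outer k hk.symm
      have h1 : α * rho ∈ (MulAut.conj : Cfsg.Spor.He →* MulAut Cfsg.Spor.He).range := by
        rw [Subgroup.mul_mem_iff_of_index_two h]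
        exact ⟨fun h => absurd h hσ, fun h => absurd h hr⟩
      obtain ⟨k, hk⟩ := h1
      refine ⟨k, Or.inr fun g => ?_⟩
      have h2 : α (rho (rho g)) = k * rho g * k⁻¹ := by
        have h3 := DFunLike.congr_fun hk (rho g)
        rw [MulAut.conj_apply, MulAut.mul_apply] at h3
        exact h3.symm
      have h3 : rho (rho g) = g := DFunLike.congr_fun rho_sq g
      rwa [h3] at h2

/-- Zeros by counting. -/
theorem vz_of_rho {x : Cfsg.Spor.He} (hx : Nat.card ↥(centralizer ({x} : Set Cfsg.Spor.He)) < 22) {j : ℕ}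
    {u : Cfsg.Spor.He} (hj : u * x ^ j * u⁻¹ = rho x) : H713.VZ Cfsg.Spor.He x := by
  refine H710.VanCount.vz_of_card x (lt_of_lt_of_le hx card_classes) fun α => ?_
  obtain ⟨k, hk | hk⟩ := aut_cases α
  · refine ⟨1, ?_⟩
    rw [pow_one, hk]
    exact isConj_iff.2 ⟨k, rfl⟩
  · refine ⟨j, ?_⟩
    rw [hk, ← hj]
    refine isConj_iff.2 ⟨k * u, ?_⟩
    group

theorem vzE : H713.VZ Cfsg.Spor.He (wd XE) :=
  vz_of_rho (lt_of_le_of_lt cardE (by norm_num)) (j := 1) (u := 1) (by
    rw [pow_one, rho_wd, one_mul, inv_one, mul_one]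
    rfl)

theorem vzF : H713.VZ Cfsg.Spor.He (wd XF) :=
  vz_of_rho (lt_of_le_of_lt cardF (by norm_num)) (j := 13) (u := wd [.b, .c, .b]) (by
    rw [rho_wd, ← wd_pw, mul_inv_eq_iff_eq_mul, ← wd_append, ← wd_append]
    exact eq_of_chkB (by decide +kernel))

theorem two_he_7' : H387.VO.TwoVan 7 Cfsg.Spor.He :=
  H387.VO.TwoVan.of_order (x := wd XE) (y := wd XF) (by rw [orderE]; norm_num) (by rw [orderF]; norm_num) vzE vzF
    (by rw [orderE, orderF]; norm_num)

/-- **The Held group, `p = 7`.** -/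
theorem two_he_7 {K : Type u} [Group K] (h : Spor.IsoHe K) : H387.VO.TwoVan 7 K := by
  obtain ⟨e⟩ := h
  exact two_he_7'.mulEquiv e.symm

/-! ### Order 5 -/

theorem hasDZ_5 : H665.NoPQ.HasDZ 5 Cfsg.Spor.He := by
  obtain ⟨χ, hχ⟩ := H678.DG.HeDegA.deg_1275
  refine H419.Row.dz_of_dvd (n := 2) χ (by rw [hχ]; norm_num) ?_ (by norm_num)
  rw [H678.DG.HeDegA.card_he]
  refine le_antisymm ?_ ?_
  · by_contra hc
    have h2 := (Nat.Prime.pow_dvd_iff_le_factorization (p := 5) (by norm_num) (k := 3) (n := 4030387200)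
      (by norm_num)).2 (by omega)
    exact absurd h2 (by norm_num)
  · exact (Nat.Prime.pow_dvd_iff_le_factorization (p := 5) (by norm_num) (k := 2) (n := 4030387200)
      (by norm_num)).1 (by norm_num)

theorem two_he_5' : H387.VO.TwoVan 5 Cfsg.Spor.He := by
  have h5 : Fact (Nat.Prime 5) := ⟨by norm_num⟩
  have e1 : orderOf (wd [.d, .c, .a]) = 5 := orderOf_of_ordT (by norm_num) (by decide +kernel)
  have e2 : orderOf (wd [.d, .c]) = 10 := orderOf_of_ordT (by norm_num) (by decide +kernel)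
  exact H387.VO.TwoVan.of_order (x := wd [.d, .c, .a]) (y := wd [.d, .c]) (by rw [e1]) (by rw [e2]; norm_num)
    (H713.HasDZ.vz hasDZ_5 (by rw [e1])) (H713.HasDZ.vz hasDZ_5 (by rw [e2]; norm_num)) (by rw [e1, e2]; norm_num)

/-- **The Held group, `p = 5`.** -/
theorem two_he_5 {K : Type u} [Group K] (h : Spor.IsoHe K) : H387.VO.TwoVan 5 K := by
  obtain ⟨e⟩ := h
  exact two_he_5'.mulEquiv e.symm

end Cfsg.Agent.H687.HeVan

private theorem dce_c2ad34bb0cd9 : _root_.True := by
  try have : _root_.True := by simp only [_root_.Cfsg.Agent.H687.HeVan.cls.eq_1]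
  exact _root_.True.intro
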